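import Mathlib.RingTheory.MvPolynomial.Homogeneous
import Mathlib.RingTheory.MvPolynomial.Basic
import Mathlib.LinearAlgebra.LinearIndependent.Lemmas
import Mathlib.LinearAlgebra.Basis.VectorSpace
import Mathlib.LinearAlgebra.Dual.Lemmas
import Mathlib.LinearAlgebra.FiniteDimensional.Lemmas
import Mathlib.Algebra.Order.Antidiag.Finsupp
import Mathlib.Algebra.Order.Antidiag.FinsuppEquiv
import Mathlib.RingTheory.Polynomial.Basic

set_option autoImplicit false
open MvPolynomial
universe u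

namespace Groth.Agent.ProjPtsLib

variable {k : Type u} [Field k] {r : ℕ}

/-- The linear form with coefficients given by a functional. -/
noncomputable def lin (φ : (Fin r → k) →ₗ[k] k) : MvPolynomial (Fin r) k :=
  ∑ i, C (φ (Pi.single i 1)) * X i

theorem eval_lin (φ : (Fin r → k) →ₗ[k] k) (v : Fin r → k) : eval v (lin φ) = φ v := by
  conv_rhs => rw [pi_eq_sum_univ' v, map_sum]
  simp [lin, mul_comm]

theorem lin_isHomogeneous (φ : (Fin r → k) →ₗ[k] k) : (lin φ).IsHomogeneous 1 :=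
  IsHomogeneous.sum _ _ 1 fun i _ => (isHomogeneous_X k i).C_mul _

theorem exists_dual_of_not_mem {v : Fin r → k} {p : Submodule k (Fin r → k)} (hv : v ∉ p) :
    ∃ φ : (Fin r → k) →ₗ[k] k, φ v ≠ 0 ∧ ∀ w ∈ p, φ w = 0 := by
  obtain ⟨φ, hφ, hp⟩ := Submodule.exists_dual_map_eq_bot_of_notMem hv inferInstance
  exact ⟨φ, hφ, fun w hw => (Submodule.mem_bot k).mp (hp ▸ Submodule.mem_map_of_mem hw)⟩

/-- A form of degree `m` vanishing on `T` but not at `v`. -/
theorem exists_form (T : Finset (Fin r → k)) (m : ℕ) (hm : T.card ≤ m) (v : Fin r → k) (hv : v ≠ 0)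
    (h : ∀ w ∈ T, ∀ c : k, v ≠ c • w) :
    ∃ F : MvPolynomial (Fin r) k, F.IsHomogeneous m ∧ eval v F ≠ 0 ∧ ∀ w ∈ T, eval w F = 0 := by
  classical
  obtain ⟨φ₀, h₀, -⟩ := exists_dual_of_not_mem (p := (⊥ : Submodule k (Fin r → k))) (by simpa using hv)
  have key : ∀ w ∈ T, ∃ φ : (Fin r → k) →ₗ[k] k, φ v ≠ 0 ∧ φ w = 0 := fun w hw => by
    obtain ⟨φ, hφ, hp⟩ := exists_dual_of_not_mem (v := v) (p := Submodule.span k {w})
      (fun hmem => by
        obtain ⟨c, hc⟩ := Submodule.mem_span_singleton.mp hmem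
        exact h w hw c hc.symm)
    exact ⟨φ, hφ, hp w (Submodule.mem_span_singleton_self w)⟩
  choose! ψ hψv hψw using key
  refine ⟨(∏ w ∈ T, lin (ψ w)) * lin φ₀ ^ (m - T.card), ?_, ?_, ?_⟩
  · have h1 : (∏ w ∈ T, lin (ψ w)).IsHomogeneous T.card := by
      simpa using IsHomogeneous.prod T _ (fun _ => 1) fun w _ => lin_isHomogeneous (ψ w)
    have := h1.mul ((lin_isHomogeneous φ₀).pow (m - T.card))
    rwa [one_mul, Nat.add_sub_cancel' hm] at this
  · simp only [map_mul, map_prod, map_pow, eval_lin]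
    exact mul_ne_zero (Finset.prod_ne_zero_iff.mpr hψv) (pow_ne_zero _ h₀)
  · intro w hw
    simp only [map_mul, map_prod, eval_lin]
    rw [Finset.prod_eq_zero (f := fun x => ψ x w) hw (hψw w hw), zero_mul]

theorem ne_smul_of_indep {v w : Fin r → k} (h : LinearIndependent k ![v, w]) (c : k) : v ≠ c • w := by
  intro e
  have := (LinearIndependent.pair_iff.mp h 1 (-c) (by rw [one_smul, neg_smul, ← e, add_neg_cancel])).1
  exact one_ne_zero this

theorem finrank_homogeneous (m : ℕ) :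
    Module.finrank k (homogeneousSubmodule (Fin r) k m) = (r + m - 1).choose m := by
  classical
  have e : homogeneousSubmodule (Fin r) k m = restrictSupport k {d : Fin r →₀ ℕ | d.degree = m} :=
    homogeneousSubmodule_eq_finsupp_supported (Fin r) k m
  rw [e, Module.finrank_eq_nat_card_basis (basisRestrictSupport k _)]
  have hs : {d : Fin r →₀ ℕ | d.degree = m} = ↑((Finset.univ : Finset (Fin r)).finsuppAntidiag m) := by
    ext d
    simp [Finsupp.degree_eq_sum]
  rw [hs, Nat.card_coe_set_eq, Set.ncard_coe_finset, Finset.card_finsuppAntidiag_nat_eq_choose]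
  simp

theorem not_subset_line (n : ℕ) (Λ : Finset (Fin 3 → k)) (hcard : Λ.card = n) (h0 : ∀ v ∈ Λ, v ≠ 0)
    (hdist : ∀ v ∈ Λ, ∀ w ∈ Λ, v ≠ w → LinearIndependent k ![v, w])
    (hline : ¬ ∃ ℓ : (Fin 3 → k) →ₗ[k] k, ℓ ≠ 0 ∧ ∀ v ∈ Λ, ℓ v = 0)
    (u : Fin 3 → k) (hu0 : u ≠ 0) (hu : ∀ w ∈ Λ, ∀ c : k, u ≠ c • w) :
    ∃ F : MvPolynomial (Fin 3) k, F.IsHomogeneous (n - 1) ∧ eval u F ≠ 0 ∧ ∀ w ∈ Λ, eval w F = 0 := by
  classical
  rcases Λ.eq_empty_or_nonempty with rfl | ⟨v, hv⟩
  · exact exists_form ∅ (n - 1) (Nat.zero_le _) u hu0 (by simp)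
  obtain ⟨w, hw, hvw, huw⟩ : ∃ w ∈ Λ, v ≠ w ∧ u ∉ Submodule.span k {v, w} := by
    by_contra hall
    push Not at hall
    -- all points lie in the plane spanned by `u` and `v`
    have huv : LinearIndependent k ![v, u] := by
      rw [LinearIndependent.pair_iff' (h0 v hv)]
      exact fun c hc => hu v hv c hc.symm
    have hmem : ∀ w ∈ Λ, w ∈ Submodule.span k {v, u} := fun w hw => by
      rcases eq_or_ne v w with rfl | hne
      · exact Submodule.subset_span (Set.mem_insert _ _)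
      obtain ⟨a, b, hab⟩ := Submodule.mem_span_pair.mp (hall w hw hne)
      rw [Submodule.mem_span_pair]
      by_cases hb : b = 0
      · exact absurd (by simpa [hb] using hab.symm) (hu v hv a)
      refine ⟨-(b⁻¹ * a), b⁻¹, ?_⟩
      rw [← hab, smul_add, smul_smul, smul_smul, inv_mul_cancel₀ hb, one_smul, neg_smul]
      abel
    have hlt : Submodule.span k {v, u} < ⊤ := by
      refine lt_top_iff_ne_top.mpr fun htop => ?_
      have h2 : Module.finrank k (Submodule.span k (Set.range ![v, u])) = 2 := by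
        simpa using finrank_span_eq_card huv
      rw [Matrix.range_cons_cons_empty, htop, finrank_top, Module.finrank_fin_fun] at h2
      omega
    obtain ⟨x, -, hx⟩ := SetLike.exists_of_lt hlt
    obtain ⟨φ, hφx, hφ⟩ := exists_dual_of_not_mem hx
    exact hline ⟨φ, fun h => hφx (by rw [h]; rfl), fun w hw => hφ w (hmem w hw)⟩
  obtain ⟨φ, hφu, hφ⟩ := exists_dual_of_not_mem huw
  have hsub : ({v, w} : Finset _) ⊆ Λ := by simp [Finset.insert_subset_iff, hv, hw]
  have hc : (Λ \ {v, w}).card = n - 2 := by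
    rw [Finset.card_sdiff_of_subset hsub, hcard, Finset.card_pair hvw]
  obtain ⟨G, hG, hGu, hGT⟩ := exists_form (Λ \ {v, w}) (n - 2) hc.le u hu0
    (fun x hx => hu x (Finset.mem_sdiff.mp hx).1)
  have hn2 : 2 ≤ n := hcard ▸ (Finset.card_pair hvw ▸ Finset.card_le_card hsub)
  refine ⟨lin φ * G, ?_, ?_, fun x hx => ?_⟩
  · have := (lin_isHomogeneous φ).mul hG
    rwa [show 1 + (n - 2) = n - 1 by omega] at this
  · rw [map_mul, eval_lin]
    exact mul_ne_zero hφu hGu
  · rw [map_mul, eval_lin]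
    by_cases hxv : x = v ∨ x = w
    · rw [hφ x (Submodule.subset_span (by simpa using hxv)), zero_mul]
    · rw [hGT x (Finset.mem_sdiff.mpr ⟨hx, by simpa using hxv⟩), mul_zero]

end Groth.Agent.ProjPtsLib
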